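import Groth.Agent.Lib.CohFound.ClosedImmPush
import Groth.Agent.Lib.CohFound.SerreVan
import Groth.Agent.Lib.TensorMod.IdealMod
import Groth.Agent.Lib.AmpleFin18.PushEuler
import Groth.Agent.Lib.CurveAmple18.Basic
import Groth.Agent.Lib.GenusFF17.Sum
import Groth.Agent.Lib.PicPn.Main
import Groth.Agent.Lib.VB17.Setup
import Groth.Agent.Lib.Snapper.Main
import Groth.Agent.S10829

/-! Two-step sequences on ribbons over the projective line. -/

set_option autoImplicit false
set_option linter.style.haveILetI false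
set_option backward.isDefEq.respectTransparency false
set_option backward.isDefEq.respectTransparency.types false
set_option maxHeartbeats 1000000

universe u

open CategoryTheory CategoryTheory.Limits AlgebraicGeometry TopologicalSpace Opposite

noncomputable section

namespace Groth.Agent.Ribbon17

open Groth.Agent

section Ideal

variable {C : Scheme.{u}} (I : C.IdealSheafData) (hI : I ^ 2 = ⊥)

include hI in
theorem range_eq_univ : Set.range I.subschemeι = Set.univ := by
  rw [Scheme.IdealSheafData.range_subschemeι, ← Scheme.IdealSheafData.support_pow I 2 two_ne_zero, hI,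
    Scheme.IdealSheafData.support_bot]
  rfl

include hI in
theorem isIso_unit_idealMod :
    IsIso ((Scheme.Modules.pullbackPushforwardAdjunction I.subschemeι).unit.app (ClSub.idealMod I)) := by
  haveI : Mono (ClSub.idealModι I) := inferInstanceAs (Mono (kernel.ι (ClSub.toSubscheme I)))
  refine M1.isIso_unit_of_ker_smul I.subschemeι _ (M2.isQCoh_idealMod I) fun U a ha s => ?_
  rw [Scheme.IdealSheafData.ker_subschemeι] at ha
  refine M1.app_injective (ClSub.idealModι I) U.1 ?_
  rw [map_zero, Scheme.Modules.Hom.app_smul]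
  have h0 : (ClSub.toSubscheme I).app U.1 ((ClSub.idealModι I).app U.1 s) = 0 := by
    have := congrArg (fun φ : ClSub.idealMod I ⟶ ClSub.quotMod I => φ.app U.1 s) (kernel.condition (ClSub.toSubscheme I))
    exact this
  have hs : (ClSub.idealModι I).app U.1 s ∈ I.ideal U := by
    refine (SetLike.ext_iff.1 (congrArg (fun J : C.IdealSheafData => J.ideal U) (Scheme.IdealSheafData.ker_subschemeι I)) _).1 ?_
    show _ ∈ I.subschemeι.ker.ideal U
    rw [Scheme.Hom.ker_apply, RingHom.mem_ker]
    exact h0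
  have hmul : a * (show Γ(C, U.1) from (ClSub.idealModι I).app U.1 s) ∈ (I ^ 2).ideal U := by
    rw [Scheme.IdealSheafData.ideal_pow, pow_two]
    exact Ideal.mul_mem_mul ha hs
  rw [hI] at hmul
  exact hmul

end Ideal

section Ribbon

variable {k : Type u} [Field k] {C : Scheme.{u}} [C.Over (Spec (CommRingCat.of k))]
  [IsProper (C ↘ (Spec (CommRingCat.of k)))]
  (I : C.IdealSheafData) (hI : I ^ 2 = ⊥)
  (e : I.subscheme ≅ CohB1.ProjSpace 1 k)
  (he : e.hom ≫ CohB1.ProjSpace.toSpec 1 k = I.subschemeι ≫ (C ↘ (Spec (CommRingCat.of k))))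

/-- `ι_* e^* O(n)`. -/
abbrev pTw (n : ℤ) : C.Modules :=
  (Scheme.Modules.pushforward I.subschemeι).obj
    ((Scheme.Modules.pullback e.hom).obj (_root_.Twist.twistProjSpace 1 k n))

omit [C.Over (Spec (CommRingCat.of k))] in
theorem isQCoh_pullTw (n : ℤ) :
    Coh.IsQCoh ((Scheme.Modules.pullback e.hom).obj (_root_.Twist.twistProjSpace 1 k n)) :=
  M2.isQCoh_of_isFinLocFree (M2.isFinLocFree_pullback e.hom
    (M2.isFinLocFree_of_isInvertible (Twist.isInvertible_twistProjSpace 1 k n)))

include hI e in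
theorem topologicalKrullDim_eq_one : topologicalKrullDim C = 1 := by
  haveI : IsHomeomorph I.subschemeι := (isHomeomorph_iff_isEmbedding_surjective).2
    ⟨I.subschemeι.isClosedEmbedding.isEmbedding, Set.range_eq_univ.1 (range_eq_univ I hI)⟩
  rw [← IsHomeomorph.topologicalKrullDim_eq _ this, IsHomeomorph.topologicalKrullDim_eq _ e.hom.homeomorph.isHomeomorph,
    S10829.result k 1]
  rfl

omit [IsProper (C ↘ (Spec (CommRingCat.of k)))] in
include he in
theorem nonempty_HH (n : ℤ) (i : ℕ) :
    Nonempty (Coh.HH C (pTw I e n) i ≃ₗ[k]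
      @Coh.HH (CohB1.ProjSpace 1 k) (_root_.Twist.twistProjSpace 1 k n) i) := by
  letI : I.subscheme.Over (Spec (CommRingCat.of k)) := ⟨I.subschemeι ≫ (C ↘ Spec (CommRingCat.of k))⟩
  letI : (CohB1.ProjSpace 1 k).Over (Spec (CommRingCat.of k)) := ⟨CohB1.ProjSpace.toSpec 1 k⟩
  have hq := isQCoh_pullTw I e n
  obtain ⟨a⟩ := AmpleFin18.nonempty_HH_push (k := k) I.subschemeι rfl _ hq i
  obtain ⟨b⟩ := AmpleFin18.nonempty_HH_push (k := k) e.hom he
    ((Scheme.Modules.pullback e.hom).obj (_root_.Twist.twistProjSpace 1 k n)) hq i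
  haveI := M1.isIso_unit_of_ker_smul e.hom (_root_.Twist.twistProjSpace 1 k n) (Twist.isQCoh_twistProjSpace 1 k n)
    (fun U a ha s => by
      rw [Scheme.Hom.ker_apply, RingHom.mem_ker] at ha
      rw [(injective_iff_map_eq_zero _).1 (ConcreteCategory.bijective_of_isIso (e.hom.app U.1)).1 a ha, zero_smul])
  exact ⟨a ≪≫ₗ b.symm ≪≫ₗ (CurveCoh17.hequiv k
    (asIso ((Scheme.Modules.pullbackPushforwardAdjunction e.hom).unit.app _)) i).symm⟩

include he in
theorem euler_pTw (n : ℤ) : Curv2.euler k C (pTw I e n) = n + 1 := by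
  refine Eq.trans ?_ (GenusFF17.euler_twist (k := k) n)
  exact finsum_congr fun i => by rw [(nonempty_HH I e he n i).some.finrank_eq]

omit [IsProper (C ↘ (Spec (CommRingCat.of k)))] in
theorem exists_twist {N : I.subscheme.Modules} (hN : PicF.IsInvertible N) :
    ∃ n : ℤ, Nonempty (N ≅ (Scheme.Modules.pullback e.hom).obj (_root_.Twist.twistProjSpace 1 k n)) := by
  obtain ⟨n, ⟨φ⟩⟩ := PicPn.exists_iso_twist (n := 1) (R := k) (Twist.isInvertible_pullback e.inv hN)
  exact ⟨n, ⟨((Scheme.Modules.pullbackId _).app N).symm ≪≫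
    (Scheme.Modules.pullbackCongr e.hom_inv_id.symm).app N ≪≫ ((Scheme.Modules.pullbackComp _ _).app N).symm ≪≫
    (Scheme.Modules.pullback e.hom).mapIso φ⟩⟩

variable (L : C.Modules)

/-- `0 → I ⊗ L → L → O_D ⊗ L → 0`. -/
abbrev seq : ShortComplex C.Modules :=
  (ShortComplex.mk (ClSub.idealModι I) (ClSub.toSubscheme I) (kernel.condition _)).map (M2.tensorR L)

theorem seq_shortExact {L : C.Modules} (hL : PicF.IsInvertible L) : (seq I L).ShortExact :=
  CohFound.shortExact_tensor_invertible (M2.shortExact_idealMod I) hL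

variable {I e L} {g : ℕ}

include hI in
theorem nonempty_seq_left (hL : PicF.IsInvertible L) {n : ℤ}
    (hc : Nonempty ((Scheme.Modules.pullback I.subschemeι).obj (ClSub.idealMod I) ≅
      (Scheme.Modules.pullback e.hom).obj (_root_.Twist.twistProjSpace 1 k (-((g : ℤ) + 1)))))
    (hLD : Nonempty ((Scheme.Modules.pullback I.subschemeι).obj L ≅
      (Scheme.Modules.pullback e.hom).obj (_root_.Twist.twistProjSpace 1 k n))) :
    Nonempty ((seq I L).X₁ ≅ pTw I e (-((g : ℤ) + 1) + n)) := by
  haveI := isIso_unit_idealMod I hI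
  obtain ⟨c⟩ := hc
  obtain ⟨l⟩ := hLD
  obtain ⟨p⟩ := CohFound.nonempty_push_tensor_iso I.subschemeι ((Scheme.Modules.pullback I.subschemeι).obj (ClSub.idealMod I))
    ((M1.isQCoh_pullback I.subschemeι (M2.isQCoh_idealMod I))) L (M2.isQCoh_of_isFinLocFree (M2.isFinLocFree_of_isInvertible hL))
  obtain ⟨t⟩ := Twist.nonempty_tensor_iso (CohB1.polyGrading 1 k) (-((g : ℤ) + 1)) n (Twist.iSup_basicOpen_one 1 k)
  exact ⟨M2.tensorIso (asIso ((Scheme.Modules.pullbackPushforwardAdjunction I.subschemeι).unit.app (ClSub.idealMod I)))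
    (Iso.refl L) ≪≫ p.symm ≪≫ (Scheme.Modules.pushforward I.subschemeι).mapIso
      (M2.tensorIso c l ≪≫ (M2.pullTensorIso e.hom _ _).symm ≪≫ (Scheme.Modules.pullback e.hom).mapIso t)⟩

theorem nonempty_seq_right (hL : PicF.IsInvertible L) {n : ℤ}
    (hLD : Nonempty ((Scheme.Modules.pullback I.subschemeι).obj L ≅
      (Scheme.Modules.pullback e.hom).obj (_root_.Twist.twistProjSpace 1 k n))) :
    Nonempty ((seq I L).X₃ ≅ pTw I e n) := by
  obtain ⟨l⟩ := hLD
  obtain ⟨p⟩ := CohFound.nonempty_push_tensor_iso I.subschemeι (Coh.structureModule I.subscheme)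
    (M1.isQCoh_structureModule _) L (M2.isQCoh_of_isFinLocFree (M2.isFinLocFree_of_isInvertible hL))
  exact ⟨p.symm ≪≫ (Scheme.Modules.pushforward I.subschemeι).mapIso (M2.tensorLUnit _ ≪≫ l)⟩

include hI he in
/-- The Euler characteristic of an invertible module on a ribbon. -/
theorem euler_invertible (hL : PicF.IsInvertible L) {n : ℤ}
    (hc : Nonempty ((Scheme.Modules.pullback I.subschemeι).obj (ClSub.idealMod I) ≅
      (Scheme.Modules.pullback e.hom).obj (_root_.Twist.twistProjSpace 1 k (-((g : ℤ) + 1)))))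
    (hLD : Nonempty ((Scheme.Modules.pullback I.subschemeι).obj L ≅
      (Scheme.Modules.pullback e.hom).obj (_root_.Twist.twistProjSpace 1 k n))) :
    Curv2.euler k C L = 2 * n + 1 - g := by
  haveI := VB17.isNoetherian_of_over (k := k) (X := C)
  have hX := CurveAmple18.curveLike k C (topologicalKrullDim_eq_one I hI e).le
  obtain ⟨a⟩ := nonempty_seq_left hI hL hc hLD
  obtain ⟨b⟩ := nonempty_seq_right hL hLD
  have hA : ∀ m, CurveCoh17.Adm k (pTw I e m) := fun m =>
    hX.adm (CohFound.isCoh_push_closedImm I.subschemeι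
      (M1.isCoh_pullback e.hom (Snapper.isCoh_of_isInvertible (Twist.isInvertible_twistProjSpace 1 k m))))
  have h2 : CurveCoh17.Adm k (seq I L).X₂ := (hX.adm (Snapper.isCoh_of_isInvertible hL)).of_iso (M2.tensorLUnit L).symm
  have hsum := CurveCoh17.euler_add (seq_shortExact I hL) ((hA _).of_iso a.symm) ((hA _).of_iso b.symm)
  rw [CurveCoh17.euler_iso a, CurveCoh17.euler_iso b, euler_pTw I e he, euler_pTw I e he] at hsum
  rw [← CurveCoh17.euler_iso (M2.tensorLUnit L)]
  refine hsum.trans ?_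
  ring

end Ribbon

end Groth.Agent.Ribbon17
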