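import Groth.Agent.Lib.Ribbon17.Basic
import Groth.Agent.Lib.DlzCurve17.EndOmega
import Groth.Agent.Lib.DlzCurve17.H0One
import Groth.Agent.Lib.JumpP1_17.Koszul
import Groth.Agent.Lib.Cyc26.PBA
import Groth.Agent.Lib.RelAmple18.Generation
import Groth.Agent.Lib.TensorMod.PullStalk

/-! The dualizing module of a ribbon. -/

set_option autoImplicit false
set_option linter.style.haveILetI false
set_option backward.isDefEq.respectTransparency false
set_option backward.isDefEq.respectTransparency.types false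
set_option maxHeartbeats 1000000

universe u

open CategoryTheory CategoryTheory.Limits AlgebraicGeometry TopologicalSpace Opposite
attribute [local instance] HasDerivedCategory.standard

noncomputable section

namespace Groth.Agent.Ribbon17

open Groth.Agent Groth.Agent.CurveCoh17 Groth.Agent.M1

variable {k : Type u} [Field k] {C : Scheme.{u}} [C.Over (Spec (CommRingCat.of k))]
  [IsProper (C ↘ (Spec (CommRingCat.of k)))]
  {I : C.IdealSheafData} (hI : I ^ 2 = ⊥)
  {e : I.subscheme ≅ CohB1.ProjSpace 1 k}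
  (he : e.hom ≫ CohB1.ProjSpace.toSpec 1 k = I.subschemeι ≫ (C ↘ (Spec (CommRingCat.of k))))
  {g : ℕ}
  (hc : Nonempty ((Scheme.Modules.pullback I.subschemeι).obj (ClSub.idealMod I) ≅
      (Scheme.Modules.pullback e.hom).obj (_root_.Twist.twistProjSpace 1 k (-((g : ℤ) + 1)))))

omit [C.Over (Spec (CommRingCat.of k))] [IsProper (C ↘ (Spec (CommRingCat.of k)))] in
theorem nonempty_pullback_structure :
    Nonempty ((Scheme.Modules.pullback I.subschemeι).obj (Coh.structureModule C) ≅
      (Scheme.Modules.pullback e.hom).obj (_root_.Twist.twistProjSpace 1 k 0)) := by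
  obtain ⟨z⟩ := Twist.nonempty_twist_zero_iso (CohB1.polyGrading 1 k)
  exact ⟨Twist.pullbackUnitIso _ ≪≫ (Twist.pullbackUnitIso e.hom).symm ≪≫
    (Scheme.Modules.pullback e.hom).mapIso z.symm⟩

include hI he hc in
theorem h0_structure : Module.finrank k (Coh.HH C (Coh.structureModule C) 0) = 1 := by
  have hO : PicF.IsInvertible (Coh.structureModule C) := fun _ =>
    ⟨⊤, trivial, ⟨Scheme.Modules.restrictUnitIso _⟩⟩
  have hS := seq_shortExact I hO
  obtain ⟨a⟩ := nonempty_seq_left hI hO hc nonempty_pullback_structure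
  obtain ⟨b⟩ := nonempty_seq_right (I := I) hO (nonempty_pullback_structure (k := k) (e := e))
  haveI := HypEq17.subsingleton_h0_twist (k := k) (show -((g : ℤ) + 1) + 0 < 0 by omega)
  obtain ⟨u⟩ := nonempty_HH I e he (-((g : ℤ) + 1) + 0) 0
  obtain ⟨v⟩ := nonempty_HH I e he 0 0
  have h1 : Module.finrank k (Coh.HH C (seq I (Coh.structureModule C)).X₃ 0) = 1 := by
    rw [((hequiv k b 0).trans v).finrank_eq]
    exact HypEq17.h0_twist (k := k) 0
  haveI : Subsingleton (Coh.HH C (seq I (Coh.structureModule C)).X₁ 0) :=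
    ((hequiv k a 0).trans u).toEquiv.subsingleton
  have hinj : Function.Injective (hmap k (seq I (Coh.structureModule C)).g 0) :=
    (injective_iff_map_eq_zero _).2 fun z hz => by
      obtain ⟨w, rfl⟩ := (exact_hmap_hmap k hS 0 z).1 hz
      rw [Subsingleton.elim w 0, map_zero]
  haveI : Module.Finite k (Coh.HH C (seq I (Coh.structureModule C)).X₃ 0) := Module.finite_of_finrank_eq_succ h1
  rw [← (hequiv k (M2.tensorLUnit (Coh.structureModule C)) 0).finrank_eq]
  refine le_antisymm (h1 ▸ LinearMap.finrank_le_finrank_of_injective hinj) ?_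
  haveI : Module.Finite k (Coh.HH C (seq I (Coh.structureModule C)).X₂ 0) := Module.Finite.of_injective _ hinj
  haveI : Nonempty C := by
    by_contra h
    rw [not_nonempty_iff] at h
    have hd := topologicalKrullDim_eq_one I hI e
    haveI : IsEmpty (TopologicalSpace.IrreducibleCloseds C) := ⟨fun s => h.false s.isIrreducible.nonempty.some⟩
    rw [topologicalKrullDim, Order.krullDim_eq_bot] at hd
    simp at hd
  haveI : Nonempty (⊤ : C.Opens) := ⟨⟨Classical.arbitrary C, trivial⟩⟩
  haveI : Nontrivial Γ(C, ⊤) := Scheme.component_nontrivial C ⊤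
  haveI : Nontrivial (Coh.HH C (seq I (Coh.structureModule C)).X₂ 0) := by
    haveI : Nontrivial (Coh.HH C (Coh.structureModule C) 0) :=
      ⟨(hh0 (Coh.structureModule C)).symm (M1.one ⊤), 0, fun h => one_ne_zero (α := Γ(C, ⊤)) (by
        have := congrArg (hh0 (Coh.structureModule C)) h
        rw [AddEquiv.apply_symm_apply, map_zero] at this
        exact this)⟩
    exact (hequiv k (M2.tensorLUnit (Coh.structureModule C)) 0).toEquiv.nontrivial
  exact Module.finrank_pos (R := k) (M := Coh.HH C (seq I (Coh.structureModule C)).X₂ 0)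

omit [IsProper (C ↘ (Spec (CommRingCat.of k)))] in
theorem surjective_hmap_of_h1 {S : ShortComplex C.Modules} (hS : S.ShortExact)
    [Subsingleton (Coh.HH C S.X₃ 1)] [Module.Finite k (Coh.HH C S.X₁ 1)] [Module.Finite k (Coh.HH C S.X₂ 1)]
    (h : Module.finrank k (Coh.HH C S.X₁ 1) = Module.finrank k (Coh.HH C S.X₂ 1)) :
    Function.Surjective (hmap k S.g 0) := by
  have hsurj : Function.Surjective (hmap k S.f 1) := fun z =>
    (exact_hmap_hmap k hS 1 z).1 (Subsingleton.elim _ _)
  have hinj := (LinearMap.injective_iff_surjective_of_finrank_eq_finrank h).2 hsurj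
  intro z
  refine (exact_hmap_hdelta k hS 0 z).1 (hinj ?_)
  rw [map_zero]
  exact (exact_hdelta_hmap k hS 0 _).2 ⟨z, rfl⟩

variable [DCoh.HasRpush (C ↘ (Spec (CommRingCat.of k)))] (h : DCoh.RpushPreservesQCoh (C ↘ (Spec (CommRingCat.of k))))
    [DCoh.HasShriek (C ↘ (Spec (CommRingCat.of k))) h]
    (OY : DCoh.DQCoh (Spec (CommRingCat.of k)))
    (hOY : Nonempty (OY.obj ≅ DCoh.inD (Spec (CommRingCat.of k)) (Coh.structureModule (Spec (CommRingCat.of k)))))
    (hω : PicF.IsInvertible (DCoh.dualizingMod (C ↘ (Spec (CommRingCat.of k))) h OY 1))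

local notation "ω" => DCoh.dualizingMod (C ↘ Spec (CommRingCat.of k)) h OY 1

include hI he hc hOY hω in
/-- `ω|D = O(g-1)`. -/
theorem nonempty_restrict_dualizing :
    Nonempty ((Scheme.Modules.pullback I.subschemeι).obj ω ≅
      (Scheme.Modules.pullback e.hom).obj (_root_.Twist.twistProjSpace 1 k ((g : ℤ) - 1))) := by
  obtain ⟨n, hn⟩ := exists_twist I e (Twist.isInvertible_pullback I.subschemeι hω)
  suffices n = (g : ℤ) - 1 by subst this; exact hn
  haveI := VB17.isNoetherian_of_over (k := k) (X := C)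
  have hd := topologicalKrullDim_eq_one I hI e
  have h0 := h0_structure hI he hc
  have hCM := DlzCurve17.isCM_of_h0 hd h0
  have hequi := DlzCurve17.equidim_of_h0 hd h0
  have hX := CurveAmple18.curveLike k C hd.le
  have hω' := hX.adm (DlzCurve17.isCoh_dualizingMod k C h OY hOY)
  have hO' := hX.adm (M1.isCoh_structureModule C)
  have h2 : Curv2.euler k C ω = - Curv2.euler k C (Coh.structureModule C) := by
    rw [hω'.euler_eq, hO'.euler_eq, DlzCurve17.h0_dualizing_eq k h OY hOY hd,
      DlzCurve17.h1_dualizing_eq k h OY hOY hCM hequi hd]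
    ring
  rw [euler_invertible hI he hω hc hn,
    euler_invertible (L := Coh.structureModule C) hI he (fun _ => ⟨⊤, trivial, ⟨Scheme.Modules.restrictUnitIso _⟩⟩) hc
      nonempty_pullback_structure] at h2
  omega

include hI he hc hOY hω in
/-- Sections of `ω` restrict onto the sections of `ω|D`. -/
theorem surjective_h0 (hg : 1 ≤ g) : Function.Surjective (hmap k (seq I ω).g 0) := by
  haveI := VB17.isNoetherian_of_over (k := k) (X := C)
  have hd := topologicalKrullDim_eq_one I hI e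
  have h0 := h0_structure hI he hc
  have hn := nonempty_restrict_dualizing hI he hc h OY hOY hω
  have hS := seq_shortExact I hω
  obtain ⟨a⟩ := nonempty_seq_left hI hω hc hn
  obtain ⟨b⟩ := nonempty_seq_right hω hn
  letI : (CohB1.ProjSpace 1 k).Over (Spec (CommRingCat.of k)) := ⟨CohB1.ProjSpace.toSpec 1 k⟩
  obtain ⟨u⟩ := nonempty_HH I e he (-((g : ℤ) + 1) + ((g : ℤ) - 1)) 1
  obtain ⟨v⟩ := nonempty_HH I e he ((g : ℤ) - 1) 1
  have hA := HypEq17.adm_twist (k := k) (-((g : ℤ) + 1) + ((g : ℤ) - 1))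
  haveI := hA.fin 1
  haveI : Subsingleton (Coh.HH C (seq I ω).X₃ 1) := by
    haveI := S0844.result k 1 ((g : ℤ) - 1) 1 (by omega) (by omega)
    exact ((hequiv k b 1).trans v).toEquiv.subsingleton
  haveI : Module.Finite k (Coh.HH C (seq I ω).X₁ 1) := Module.Finite.equiv ((hequiv k a 1).trans u).symm
  have h1 : Module.finrank k (Coh.HH C (seq I ω).X₁ 1) = 1 := by
    rw [((hequiv k a 1).trans u).finrank_eq]
    have he1 := GenusFF17.euler_twist (k := k) (-((g : ℤ) + 1) + ((g : ℤ) - 1))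
    haveI := HypEq17.subsingleton_h0_twist (k := k) (show (-((g : ℤ) + 1) + ((g : ℤ) - 1)) < 0 by omega)
    rw [hA.euler_eq, Module.finrank_zero_of_subsingleton] at he1
    omega
  have hX := CurveAmple18.curveLike k C hd.le
  haveI : Module.Finite k (Coh.HH C (seq I ω).X₂ 1) :=
    ((hX.adm (DlzCurve17.isCoh_dualizingMod k C h OY hOY)).of_iso (M2.tensorLUnit ω).symm).fin 1
  have h2 : Module.finrank k (Coh.HH C (seq I ω).X₂ 1) = 1 := by
    exact ((hequiv k (M2.tensorLUnit ω) 1).finrank_eq).trans ((DlzCurve17.h1_dualizing_eq k h OY hOY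
      (DlzCurve17.isCM_of_h0 hd h0) (DlzCurve17.equidim_of_h0 hd h0) hd).trans h0)
  exact surjective_hmap_of_h1 hS (h1.trans h2.symm)

section Generation

omit [C.Over (Spec (CommRingCat.of k))] [IsProper (C ↘ (Spec (CommRingCat.of k)))]
  [DCoh.HasRpush (C ↘ (Spec (CommRingCat.of k)))] [DCoh.HasShriek (C ↘ (Spec (CommRingCat.of k))) h]

theorem exists_gen_section {n : ℕ} (x : CohB1.ProjSpace 1 k) :
    ∃ t : Γ(_root_.Twist.twistProjSpace 1 k (n : ℤ), (⊤ : (CohB1.ProjSpace 1 k).Opens)),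
      Amp.Gen ((_root_.Twist.twistProjSpace 1 k (n : ℤ)).presheaf.germ ⊤ x trivial t) := by
  classical
  obtain ⟨a, ha⟩ := Opens.mem_iSup.1 ((P1Split.iSup_U k).ge (Opens.mem_top x))
  obtain ⟨p, hp, hpa⟩ : ∃ p : Fin 2 → Polynomial k,
      P1Split.negHom k (p 1) * LaurentPolynomial.T (n : ℤ) = LaurentPolynomial.T (0 : ℤ) * P1Split.posHom k (p 0) ∧
        p a = 1 := by
    obtain rfl | rfl := (Fin.exists_fin_two (p := fun b => b = a)).1 ⟨a, rfl⟩
    · refine ⟨![1, Polynomial.X ^ n], ?_, by simp⟩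
      simp only [Matrix.cons_val_one, Matrix.cons_val_zero, P1Split.negHom_X_pow, map_one, mul_one,
        ← LaurentPolynomial.T_add, neg_add_cancel]
    · refine ⟨![Polynomial.X ^ n, 1], ?_, by simp⟩
      simp only [Matrix.cons_val_one, Matrix.cons_val_zero, map_one, one_mul, P1Split.posHom, map_pow,
        Polynomial.toLaurent_X, LaurentPolynomial.T_pow, mul_one, LaurentPolynomial.T_zero]
  obtain ⟨φ, hφ⟩ := JumpP1.exists_mulHom k 0 (n : ℤ) p hp
  have h1 := hφ a
  rw [hpa, map_one, one_smul] at h1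
  obtain ⟨z⟩ := Twist.nonempty_twist_zero_iso (CohB1.polyGrading 1 k)
  let T : (P1Split.P1 k).Modules := _root_.Twist.twist (P1Split.gr k) (n : ℤ)
  refine ⟨(z.inv ≫ φ).app ⊤ (M1.one ⊤), ?_⟩
  refine Cyc26.gen_of_span (Twist.isInvertible_twistProjSpace 1 k _) (eq_top_iff.2 fun m _ => ?_)
  have hs : Function.Surjective (stalkLin φ x) := fun c => by
    obtain ⟨W, hW, s, rfl⟩ := T.presheaf.germ_exist c
    have hW' : x ∈ W ⊓ P1Split.U k a := ⟨hW, ha⟩
    obtain ⟨r, hr⟩ := (P1Split.isGen_twGen k (n : ℤ) a (W ⊓ P1Split.U k a) inf_le_right).2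
      (M1.mres T inf_le_left s)
    refine ⟨(_root_.Twist.twist (P1Split.gr k) 0).presheaf.germ (W ⊓ P1Split.U k a) x hW'
      (r • M1.mres _ inf_le_right (P1Split.twGen k 0 a)), ?_⟩
    refine (M1.germ_naturality φ (W ⊓ P1Split.U k a) x hW' _).trans ?_
    rw [Scheme.Modules.Hom.app_smul, M1.app_mres, h1]
    refine (congrArg (T.presheaf.germ (W ⊓ P1Split.U k a) x hW') hr).trans ?_
    exact TopCat.Presheaf.germ_res_apply T.presheaf _ x hW' s
  obtain ⟨c, rfl⟩ := hs m
  obtain ⟨r, rfl⟩ : ∃ r : (CohB1.ProjSpace 1 k).presheaf.stalk x,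
      r • (_root_.Twist.twist (P1Split.gr k) 0).presheaf.germ ⊤ x trivial (z.inv.app ⊤ (M1.one ⊤)) = c := by
    obtain ⟨d, hd⟩ : ∃ d, stalkLin z.inv x d = c := ⟨stalkLin z.hom x c, by
      show ((M1.stalkAb x).map z.hom ≫ (M1.stalkAb x).map z.inv) c = c
      rw [← Functor.map_comp, z.hom_inv_id, CategoryTheory.Functor.map_id]; rfl⟩
    obtain ⟨r, hr⟩ := (RH26.str x).surjective d
    refine ⟨r, ?_⟩
    rw [← hd, ← hr, RH26.str_apply, map_smul]
    congr 1
    exact (M1.germ_naturality z.inv ⊤ x trivial (M1.one ⊤)).symm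
  rw [map_smul]
  refine Submodule.smul_mem _ r ?_
  refine Submodule.mem_span_singleton.2 ⟨1, (one_smul _ _).trans ?_⟩
  exact (M1.germ_naturality φ ⊤ x trivial (z.inv.app ⊤ (M1.one ⊤))).symm

theorem gen_of_gen_stalkUnit {X Y : Scheme.{u}} (f : Y ⟶ X) {M : X.Modules} (hM : PicF.IsInvertible M) (y : Y)
    (a : (M.presheaf.stalk (f y) : Type u)) (h : Amp.Gen (M2.stalkUnit f y M a)) : Amp.Gen a := by
  obtain ⟨g0, hg0⟩ := Amp.exists_stalk_gen hM (f y)
  obtain ⟨c, rfl⟩ := hg0.2 a
  change Amp.Gen (M2.stalkUnit f y M (c • g0)) at h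
  rw [map_smul, ← algebraMap_smul (Y.presheaf.stalk y) c (M2.stalkUnit f y M g0),
    Amp.gen_smul_iff (Twist.isInvertible_pullback f hM)] at h
  exact (Amp.gen_smul_iff hM c g0).2 ⟨isUnit_of_map_unit (f.stalkMap y).hom c h.1, hg0⟩

theorem gen_pullback {X Y : Scheme.{u}} (f : Y ⟶ X) {M : X.Modules} (hM : PicF.IsInvertible M) (y : Y)
    (a : (M.presheaf.stalk (f y) : Type u)) (h : Amp.Gen a) : Amp.Gen (M2.stalkUnit f y M a) := by
  refine Cyc26.gen_of_span (Twist.isInvertible_pullback f hM) (eq_top_iff.2 fun m _ => ?_)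
  obtain ⟨b, rfl⟩ : ∃ b, M2.pullStalkMap f y M b = m := ⟨_, M2.pullStalkMap_inv f y M m⟩
  induction b using TensorProduct.induction_on with
  | zero => rw [map_zero]; exact zero_mem _
  | add p q hp hq => rw [map_add]; exact add_mem (hp trivial) (hq trivial)
  | tmul r c =>
    obtain ⟨c, rfl⟩ := h.2 c
    show M2.pullStalkMap f y M (r ⊗ₜ (c • a)) ∈ _
    rw [M2.pullStalkMap, LinearMap.liftBaseChange_tmul, map_smul,
      ← algebraMap_smul (Y.presheaf.stalk y) c (M2.stalkUnit f y M a)]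
    exact Submodule.smul_mem _ _ (Submodule.smul_mem _ _ (Submodule.mem_span_singleton_self _))

end Generation

end Groth.Agent.Ribbon17
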