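import Groth.Agent.Lib.Ribbon17.Dual
import Groth.Agent.Lib.FormalH7.Nbhd

/-! Global generation of the dualizing module of a ribbon. -/

set_option autoImplicit false
set_option linter.style.haveILetI false
set_option backward.isDefEq.respectTransparency false
set_option backward.isDefEq.respectTransparency.types false
set_option maxHeartbeats 1000000

universe u

open CategoryTheory CategoryTheory.Limits AlgebraicGeometry TopologicalSpace Opposite
attribute [local instance] HasDerivedCategory.standard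

noncomputable section

namespace Groth.Agent.Ribbon17

open Groth.Agent Groth.Agent.CurveCoh17

theorem gen_map {X : Scheme.{u}} {M N : X.Modules} (φ : M ⟶ N) [IsIso φ] {x : X}
    {a : (M.presheaf.stalk x : Type u)} (h : Amp.Gen a) : Amp.Gen (stalkLin φ x a) := by
  have hb : Function.Bijective (stalkLin φ x) := (M1.isIso_iff_stalk φ).1 inferInstance x
  have e : (fun r : X.presheaf.stalk x => r • stalkLin φ x a) = stalkLin φ x ∘ fun r => r • a :=
    funext fun r => (map_smul _ r a).symm
  show Function.Bijective fun r : X.presheaf.stalk x => r • stalkLin φ x a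
  rw [e]
  exact hb.comp h

/-- A lifting criterion for generation along a closed immersion. -/
theorem exists_gen_of_lift {X Y : Scheme.{u}} (i : Y ⟶ X) [IsClosedImmersion i] {A Q : X.Modules} (g : A ⟶ Q)
    (hA : PicF.IsInvertible A) [IsIso ((Scheme.Modules.pullback i).map g)]
    [IsIso ((Scheme.Modules.pullbackPushforwardAdjunction i).unit.app Q)]
    (hg : Function.Surjective (g.app (⊤ : X.Opens))) (z : Y)
    (u : Γ((Scheme.Modules.pullback i).obj A, (⊤ : Y.Opens)))
    (hu : Amp.Gen (((Scheme.Modules.pullback i).obj A).presheaf.germ ⊤ z trivial u)) :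
    ∃ t : Γ(A, (⊤ : X.Opens)), Amp.Gen (A.presheaf.germ ⊤ (i z) trivial t) := by
  let η := (Scheme.Modules.pullbackPushforwardAdjunction i).unit.app Q
  let w : Γ((Scheme.Modules.pullback i).obj Q, i ⁻¹ᵁ (⊤ : X.Opens)) :=
    ((Scheme.Modules.pullback i).map g).app (i ⁻¹ᵁ ⊤) u
  obtain ⟨t, ht⟩ := hg ((inv η).app (⊤ : X.Opens) w)
  refine ⟨t, gen_of_gen_stalkUnit i hA z _ ?_⟩
  have h1 : M2.pullSec i Q (g.app ⊤ t) = w := by
    rw [ht]
    exact congrArg (fun φ : (Scheme.Modules.pushforward i).obj ((Scheme.Modules.pullback i).obj Q) ⟶ _ => φ.app ⊤ w)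
      (IsIso.inv_hom_id η)
  have h2 : M2.pullSec i A t = u := by
    refine M1.app_injective ((Scheme.Modules.pullback i).map g) (i ⁻¹ᵁ ⊤) ?_
    rw [FormalH7.pullSec_naturality, h1]
  show Amp.Gen (M2.stalkUnitHom i z A (A.presheaf.germ ⊤ (i z) trivial t))
  rw [M2.stalkUnitHom_germ, h2]
  exact hu

variable {k : Type u} [Field k] {C : Scheme.{u}} [C.Over (Spec (CommRingCat.of k))]
  [IsProper (C ↘ (Spec (CommRingCat.of k)))]
  {I : C.IdealSheafData} {e : I.subscheme ≅ CohB1.ProjSpace 1 k}

/-- An invertible module on a ribbon whose sections restrict onto those of a nonnegative twist is generated. -/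
theorem isGloballyGenerated_of_restrict (hI : I ^ 2 = ⊥) {L : C.Modules} (hL : PicF.IsInvertible L) (n : ℕ)
    (l : (Scheme.Modules.pullback I.subschemeι).obj L ≅
      (Scheme.Modules.pullback e.hom).obj (_root_.Twist.twistProjSpace 1 k (n : ℤ)))
    (hh : Function.Surjective (hmap k (seq I L).g 0)) : Curv2.IsGloballyGenerated L := by
  obtain ⟨b⟩ := nonempty_seq_right (I := I) hL ⟨l⟩
  have hA : PicF.IsInvertible (seq I L).X₂ := Twist.isInvertible_of_iso (M2.tensorLUnit L).symm hL
  haveI : IsIso ((Scheme.Modules.pullbackPushforwardAdjunction I.subschemeι).unit.app (seq I L).X₃) := by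
    refine M1.isIso_unit_of_ker_smul I.subschemeι _ (Groth.Agent.M1.isQCoh_of_isIso b.symm
      (M1.isQCoh_push _ (isQCoh_pullTw I e _))) fun U a ha s => ?_
    refine M1.app_injective b.hom U.1 ?_
    rw [map_zero, Scheme.Modules.Hom.app_smul]
    exact CohFound.ker_smul_push I.subschemeι _ U a ha _
  let l' : (Scheme.Modules.pullback I.subschemeι).obj (seq I L).X₂ ≅
      (Scheme.Modules.pullback e.hom).obj (_root_.Twist.twistProjSpace 1 k (n : ℤ)) :=
    (Scheme.Modules.pullback I.subschemeι).mapIso (M2.tensorLUnit L) ≪≫ l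
  haveI : IsIso ((Scheme.Modules.pullback I.subschemeι).map (seq I L).g) := by
    haveI := (Scheme.Modules.pullbackPushforwardAdjunction I.subschemeι).leftAdjoint_preservesColimits.{0, 0}
    haveI : Epi (seq I L).g := (seq_shortExact I hL).epi_g
    haveI := CohFound.isIso_counit_closedImm I.subschemeι _ (isQCoh_pullTw I e (n : ℤ))
    exact Cyc26A.isIso_of_epi_invertible (Twist.isInvertible_pullback _ hA)
      (Twist.isInvertible_of_iso ((Scheme.Modules.pullback I.subschemeι).mapIso b ≪≫
        asIso ((Scheme.Modules.pullbackPushforwardAdjunction I.subschemeι).counit.app _)).symm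
        (Twist.isInvertible_pullback _ (Twist.isInvertible_twistProjSpace 1 k _))) _
  have hsurj : Function.Surjective ((seq I L).g.app (⊤ : C.Opens)) := fun v => by
    obtain ⟨w, hw⟩ := hh ((hh0 _).symm v)
    refine ⟨hh0 _ w, ?_⟩
    rw [← hh0_hmap k, hw, AddEquiv.apply_symm_apply]
  have hgg : Curv2.IsGloballyGenerated (seq I L).X₂ := by
    refine RA.isGloballyGenerated_of_span _ fun x => ?_
    obtain ⟨z, rfl⟩ : x ∈ Set.range I.subschemeι := range_eq_univ I hI ▸ trivial
    obtain ⟨t, ht⟩ := exists_gen_section (k := k) (n := n) (e.hom z)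
    have hp := gen_pullback e.hom (Twist.isInvertible_twistProjSpace 1 k (n : ℤ)) z _ ht
    have hp' : Amp.Gen (M2.stalkUnitHom e.hom z (_root_.Twist.twistProjSpace 1 k (n : ℤ))
      ((_root_.Twist.twistProjSpace 1 k (n : ℤ)).presheaf.germ ⊤ (e.hom z) trivial t)) := hp
    rw [M2.stalkUnitHom_germ] at hp'
    let l'' := l'
    have hu := gen_map l''.inv hp'
    have hu' : Amp.Gen ((((Scheme.Modules.pullback I.subschemeι).obj (seq I L).X₂)).presheaf.germ ⊤ z trivial
        (l''.inv.app ⊤ (M2.pullSec e.hom _ t))) := by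
      refine Eq.mp (congrArg Amp.Gen ?_) hu
      exact M1.germ_naturality l''.inv ⊤ z trivial _
    obtain ⟨s, hs⟩ := exists_gen_of_lift I.subschemeι (seq I L).g hA hsurj z _ hu'
    refine top_le_iff.1 fun a _ => ?_
    obtain ⟨r, rfl⟩ := hs.2 a
    exact Submodule.smul_mem _ r (Submodule.subset_span ⟨s, rfl⟩)
  obtain ⟨J, p, hp⟩ := hgg
  exact ⟨J, p ≫ (M2.tensorLUnit L).hom, epi_comp _ _⟩

variable
  [DCoh.HasRpush (C ↘ (Spec (CommRingCat.of k)))] (h : DCoh.RpushPreservesQCoh (C ↘ (Spec (CommRingCat.of k))))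
    [DCoh.HasShriek (C ↘ (Spec (CommRingCat.of k))) h]

theorem isGloballyGenerated_dualizing (hI : I ^ 2 = ⊥)
    (he : e.hom ≫ CohB1.ProjSpace.toSpec 1 k = I.subschemeι ≫ (C ↘ (Spec (CommRingCat.of k))))
    {g : ℕ}
    (hc : Nonempty ((Scheme.Modules.pullback I.subschemeι).obj (ClSub.idealMod I) ≅
      (Scheme.Modules.pullback e.hom).obj (_root_.Twist.twistProjSpace 1 k (-((g : ℤ) + 1)))))
    (OY : DCoh.DQCoh (Spec (CommRingCat.of k)))
    (hOY : Nonempty (OY.obj ≅ DCoh.inD (Spec (CommRingCat.of k)) (Coh.structureModule (Spec (CommRingCat.of k)))))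
    (hω : PicF.IsInvertible (DCoh.dualizingMod (C ↘ (Spec (CommRingCat.of k))) h OY 1))
    (hg : 1 ≤ g) : Curv2.IsGloballyGenerated (DCoh.dualizingMod (C ↘ (Spec (CommRingCat.of k))) h OY 1) := by
  obtain ⟨l⟩ := nonempty_restrict_dualizing hI he hc h OY hOY hω
  exact isGloballyGenerated_of_restrict (e := e) hI hω (g - 1)
    (l ≪≫ eqToIso (by rw [show ((g - 1 : ℕ) : ℤ) = (g : ℤ) - 1 by omega]))
    (surjective_h0 hI he hc h OY hOY hω hg)

end Groth.Agent.Ribbon17
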