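import Groth.Agent.Lib.Ribbon17.Gen
import Groth.Agent.Lib.DlzCurve17.Duality
import Groth.Agent.Lib.ThetaGrp19.Scalar
import Groth.Agent.Lib.Twist.GlobalProjSpace
import Groth.Agent.Lib.PicPn.OverPoint

/-! The dualizing module of a split ribbon. -/

set_option autoImplicit false
set_option linter.style.haveILetI false
set_option backward.isDefEq.respectTransparency false
set_option backward.isDefEq.respectTransparency.types false
set_option maxHeartbeats 1000000

universe u

open CategoryTheory CategoryTheory.Limits AlgebraicGeometry TopologicalSpace Opposite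
attribute [local instance] HasDerivedCategory.standard

noncomputable section

namespace Groth.Agent.Ribbon17

open Groth.Agent Groth.Agent.CurveCoh17

theorem isIso_of_isUnit {X : Scheme.{u}} (M : X.Modules) {c : Γ(X, ⊤)} (hc : IsUnit c) :
    IsIso (ThetaGrp19.smulHom M c) := by
  refine ⟨ThetaGrp19.smulHom M (hc.unit⁻¹ : Γ(X, ⊤)ˣ), ?_, ?_⟩
  · rw [ThetaGrp19.smulHom_comp, IsUnit.mul_val_inv, ThetaGrp19.smulHom_one]
  · rw [ThetaGrp19.smulHom_comp, IsUnit.val_inv_mul, ThetaGrp19.smulHom_one]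

/-- A map of invertible modules inverted by a surjective closed restriction is invertible. -/
theorem isIso_of_isIso_pullback {X Y : Scheme.{u}} (i : Y ⟶ X) {A B : X.Modules} (φ : A ⟶ B)
    (hA : PicF.IsInvertible A) (hB : PicF.IsInvertible B) (hi : Function.Surjective i.base)
    [IsIso ((Scheme.Modules.pullback i).map φ)] : IsIso φ := by
  refine (M1.isIso_iff_stalk φ).2 fun x => ?_
  obtain ⟨y, rfl⟩ := hi x
  obtain ⟨a, ha⟩ := Amp.exists_stalk_gen hA (i y)
  have h1 := gen_map ((Scheme.Modules.pullback i).map φ) (gen_pullback i hA y a ha)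
  have h2 : stalkLin ((Scheme.Modules.pullback i).map φ) y (M2.stalkUnit i y A a) =
      M2.stalkUnit i y B (stalkLin φ (i y) a) := by
    obtain ⟨U, hU, s, rfl⟩ := A.presheaf.germ_exist a
    show (M1.stalkAb y).map ((Scheme.Modules.pullback i).map φ) (M2.stalkUnitHom i y A _) =
      M2.stalkUnitHom i y B ((M1.stalkAb (i y)).map φ _)
    rw [M2.stalkUnitHom_germ, M1.germ_naturality, M1.germ_naturality, M2.stalkUnitHom_germ,
      FormalH7.pullSec_naturality]
  rw [h2] at h1
  have h3 := gen_of_gen_stalkUnit i hB y _ h1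
  show Function.Bijective (stalkLin φ (i y))
  refine ((ha : Function.Bijective _).of_comp_iff _).1 ?_
  have e : ⇑(stalkLin φ (i y)) ∘ (fun r => r • a) = fun r => r • stalkLin φ (i y) a := funext fun r => map_smul _ r a
  rw [e]
  exact h3

variable {k : Type u} [Field k] {C : Scheme.{u}} [C.Over (Spec (CommRingCat.of k))]
  [IsProper (C ↘ (Spec (CommRingCat.of k)))]
  {I : C.IdealSheafData} {e : I.subscheme ≅ CohB1.ProjSpace 1 k}

omit [C.Over (Spec (CommRingCat.of k))] [IsProper (C ↘ (Spec (CommRingCat.of k)))] in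
include e in
theorem eq_zero_or_isUnit_D (c : Γ(I.subscheme, ⊤)) : c = 0 ∨ IsUnit c := by
  let F : k →+* Γ(I.subscheme, ⊤) := e.hom.appTop.hom.comp
    ((CohB1.ProjSpace.toSpec 1 k).appTop.hom.comp (Scheme.ΓSpecIso (CommRingCat.of k)).inv.hom)
  have hF : Function.Bijective F := (ConcreteCategory.bijective_of_isIso e.hom.appTop).comp
    ((PicPn.bijective_toSpec_appTop' 1 k).comp
      (ConcreteCategory.bijective_of_isIso (Scheme.ΓSpecIso (CommRingCat.of k)).inv))
  obtain ⟨a, rfl⟩ := hF.2 c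
  rcases eq_or_ne a 0 with rfl | ha
  · exact Or.inl (map_zero F)
  · exact Or.inr ((isUnit_iff_ne_zero.2 ha).map F)

/-- A nonzero map between invertible modules with the same restriction is invertible. -/
theorem isIso_of_ne_zero (hI : I ^ 2 = ⊥) {A L : C.Modules} (hA : PicF.IsInvertible A) (hL : PicF.IsInvertible L)
    {n : ℤ} (lA : (Scheme.Modules.pullback I.subschemeι).obj A ≅
      (Scheme.Modules.pullback e.hom).obj (_root_.Twist.twistProjSpace 1 k n))
    (lL : (Scheme.Modules.pullback I.subschemeι).obj L ≅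
      (Scheme.Modules.pullback e.hom).obj (_root_.Twist.twistProjSpace 1 k n))
    (hAgen : ∀ x : C, ∃ t : Γ(A, (⊤ : C.Opens)), Amp.Gen (A.presheaf.germ ⊤ x trivial t))
    (h0 : Subsingleton (Coh.HH C (seq I L).X₁ 0)) (φ : A ⟶ L) (hφ : φ ≠ 0) : IsIso φ := by
  have hD : PicF.IsInvertible ((Scheme.Modules.pullback e.hom).obj (_root_.Twist.twistProjSpace 1 k n)) :=
    Twist.isInvertible_pullback _ (Twist.isInvertible_twistProjSpace 1 k n)
  obtain ⟨c, hc, -⟩ := ThetaGrp19.existsUnique_smulHom hD (lA.inv ≫ (Scheme.Modules.pullback I.subschemeι).map φ ≫ lL.hom)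
  have hm : (Scheme.Modules.pullback I.subschemeι).map φ = lA.hom ≫ ThetaGrp19.smulHom _ c ≫ lL.inv := by
    rw [← hc]; simp
  rcases eq_zero_or_isUnit_D (e := e) c with rfl | hu
  · exfalso
    have hz : ThetaGrp19.smulHom ((Scheme.Modules.pullback e.hom).obj (_root_.Twist.twistProjSpace 1 k n)) 0 = 0 :=
      Scheme.Modules.hom_ext _ _ fun V => by
        ext s; rw [ThetaGrp19.smulHom_app, map_zero, zero_smul]; rfl
    rw [hz, zero_comp, comp_zero] at hm
    obtain ⟨b⟩ := nonempty_seq_right (I := I) hL ⟨lL⟩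
    haveI : IsIso ((Scheme.Modules.pullbackPushforwardAdjunction I.subschemeι).unit.app (seq I L).X₃) := by
      refine M1.isIso_unit_of_ker_smul I.subschemeι _ (Groth.Agent.M1.isQCoh_of_isIso b.symm
        (M1.isQCoh_push _ (isQCoh_pullTw I e _))) fun U a ha s => ?_
      refine M1.app_injective b.hom U.1 ?_
      rw [map_zero, Scheme.Modules.Hom.app_smul]
      exact CohFound.ker_smul_push I.subschemeι _ U a ha _
    let ψ : A ⟶ (seq I L).X₂ := φ ≫ (M2.tensorLUnit L).inv
    have hψ0 : (Scheme.Modules.pullback I.subschemeι).map (ψ ≫ (seq I L).g) = 0 := by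
      rw [Functor.map_comp, Functor.map_comp, hm, zero_comp, zero_comp]
    have hg0 : ψ ≫ (seq I L).g = 0 := by
      rw [← cancel_mono ((Scheme.Modules.pullbackPushforwardAdjunction I.subschemeι).unit.app (seq I L).X₃), zero_comp]
      refine ((Scheme.Modules.pullbackPushforwardAdjunction I.subschemeι).unit.naturality (ψ ≫ (seq I L).g)).trans ?_
      rw [Functor.comp_map, hψ0, Functor.map_zero, comp_zero]
    refine hφ ?_
    suffices ψ = 0 by simpa [ψ] using congrArg (· ≫ (M2.tensorLUnit L).hom) this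
    have hsec : ∀ t : Γ(A, (⊤ : C.Opens)), ψ.app ⊤ t = 0 := fun t => by
      have h1 : hmap k (seq I L).g 0 ((hh0 _).symm (ψ.app ⊤ t)) = 0 := by
        apply (hh0 _).injective
        rw [hh0_hmap, AddEquiv.apply_symm_apply, map_zero]
        exact congrArg (fun f : A ⟶ (seq I L).X₃ => f.app ⊤ t) hg0
      obtain ⟨w, hw⟩ := (exact_hmap_hmap k (seq_shortExact I hL) 0 _).1 h1
      rw [Subsingleton.elim w 0, map_zero] at hw
      have h2 := congrArg (hh0 _) hw
      rw [map_zero, AddEquiv.apply_symm_apply] at h2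
      exact h2.symm
    have hst : ∀ x a, stalkLin ψ x a = 0 := fun x a => by
      obtain ⟨t, ht⟩ := hAgen x
      obtain ⟨r, rfl⟩ := ht.2 a
      show stalkLin ψ x (r • _) = 0
      rw [map_smul, show stalkLin ψ x (A.presheaf.germ ⊤ x trivial t) = _ from M1.germ_naturality ψ ⊤ x trivial t,
        hsec t, map_zero, smul_zero]
    refine (Scheme.Modules.toPresheaf C).map_injective ?_
    refine NatTrans.ext (funext fun V => ?_)
    ext s
    refine M1.section_ext _ _ fun x hx => ?_
    refine (M1.germ_naturality ψ V.unop x hx s).symm.trans ((hst x _).trans ?_)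
    exact (map_zero _).symm
  · haveI := isIso_of_isUnit ((Scheme.Modules.pullback e.hom).obj (_root_.Twist.twistProjSpace 1 k n)) hu
    haveI : IsIso ((Scheme.Modules.pullback I.subschemeι).map φ) := by rw [hm]; infer_instance
    exact isIso_of_isIso_pullback I.subschemeι φ hA hL (Set.range_eq_univ.1 (range_eq_univ I hI))

omit [IsProper (C ↘ (Spec (CommRingCat.of k)))] in
/-- Sections of `e^*O(n)` give sections of its retracted pullback. -/
theorem exists_injective_h0 (hI : I ^ 2 = ⊥) (n : ℤ) (r : C ⟶ I.subscheme) (hr : I.subschemeι ≫ r = 𝟙 I.subscheme)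
    (hrk : r ≫ I.subschemeι ≫ (C ↘ (Spec (CommRingCat.of k))) = C ↘ (Spec (CommRingCat.of k))) :
    ∃ F : Coh.HH C (pTw I e n) 0 →ₗ[k]
      Coh.HH C ((Scheme.Modules.pullback r).obj ((Scheme.Modules.pullback e.hom).obj (_root_.Twist.twistProjSpace 1 k n))) 0,
      Function.Injective F := by
  let M := (Scheme.Modules.pullback e.hom).obj (_root_.Twist.twistProjSpace 1 k n)
  have hM : PicF.IsInvertible M := Twist.isInvertible_pullback _ (Twist.isInvertible_twistProjSpace 1 k n)
  let N := (Scheme.Modules.pullback r).obj M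
  have hsc : ∀ c : k, r.appTop (I.subschemeι.appTop (Coh.toGlobal (C ↘ Spec (CommRingCat.of k)) c)) =
      Coh.toGlobal (C ↘ Spec (CommRingCat.of k)) c := fun c =>
    ConcreteCategory.congr_hom (congrArg Scheme.Hom.appTop hrk) ((Scheme.ΓSpecIso (CommRingCat.of k)).inv c)
  let F : Coh.HH C (pTw I e n) 0 →ₗ[k] Coh.HH C N 0 :=
    { toFun := fun z => (hh0 N).symm (show Γ(N, (⊤ : C.Opens)) from M2.pullSec r M
        (show Γ(M, (⊤ : I.subscheme.Opens)) from hh0 (pTw I e n) z))
      map_add' := fun a b => by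
        apply (hh0 N).injective
        rw [AddEquiv.apply_symm_apply, map_add (hh0 N), AddEquiv.apply_symm_apply, AddEquiv.apply_symm_apply]
        refine Eq.trans (congrArg _ (map_add (hh0 (pTw I e n)) a b)) ?_
        exact M2.pullSec_add r M _ _
      map_smul' := fun c z => by
        apply (hh0 N).injective
        rw [RingHom.id_apply, AddEquiv.apply_symm_apply]
        refine Eq.trans (congrArg _ (hh0_smul (M := pTw I e n) _ z)) ?_
        refine Eq.trans (M2.pullSec_smul r M (U := ⊤)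
          (I.subschemeι.appTop (Coh.toGlobal (C ↘ Spec (CommRingCat.of k)) c)) _) ?_
        refine Eq.trans ?_ (hh0_smul (M := N) _ _).symm
        rw [AddEquiv.apply_symm_apply]
        exact congrArg (· • _) (hsc c) }
  refine ⟨F, (injective_iff_map_eq_zero F).2 fun z hz => ?_⟩
  apply (hh0 (pTw I e n)).injective
  rw [map_zero]
  have h1 : M2.pullSec r M (U := (⊤ : I.subscheme.Opens)) (show Γ(M, (⊤ : I.subscheme.Opens)) from hh0 (pTw I e n) z) = 0 :=
    (hh0 N).symm.injective (hz.trans (map_zero _).symm)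
  change (show Γ(M, (⊤ : I.subscheme.Opens)) from hh0 (pTw I e n) z) = (0 : Γ(M, (⊤ : I.subscheme.Opens)))
  generalize (show Γ(M, (⊤ : I.subscheme.Opens)) from hh0 (pTw I e n) z) = m at h1 ⊢
  refine M1.section_ext m 0 fun y hy => ?_
  rw [map_zero]
  obtain ⟨x, rfl⟩ : ∃ x, r x = y := ⟨I.subschemeι y, by
    show (I.subschemeι ≫ r) y = y; rw [hr]; rfl⟩
  obtain ⟨a, ha⟩ := Amp.exists_stalk_gen hM (r x)
  obtain ⟨c, hc⟩ := ha.2 (M.presheaf.germ ⊤ (r x) trivial m)
  simp only at hc
  have h2 : M2.stalkUnit r x M (c • a) = 0 := by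
    rw [hc]
    show M2.stalkUnitHom r x M _ = 0
    rw [M2.stalkUnitHom_germ, h1, map_zero]
  rw [map_smul, ← algebraMap_smul (C.presheaf.stalk x) c (M2.stalkUnit r x M a)] at h2
  have hg := gen_pullback r hM x a ha
  have h3 : r.stalkMap x c = 0 := hg.1 (h2.trans (zero_smul _ _).symm)
  have hinj : Function.Injective (r.stalkMap x) := by
    obtain ⟨z', rfl⟩ : ∃ z', I.subschemeι z' = x := by
      have : x ∈ Set.range I.subschemeι := by
        rw [range_eq_univ I hI]; trivial
      exact this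
    have h4 : Function.Bijective ((I.subschemeι ≫ r).stalkMap z') := by
      haveI : IsIso (I.subschemeι ≫ r) := hr ▸ inferInstance
      exact ConcreteCategory.bijective_of_isIso _
    rw [Scheme.Hom.stalkMap_comp] at h4
    intro p q hpq
    exact h4.1 (show I.subschemeι.stalkMap z' (r.stalkMap _ p) = I.subschemeι.stalkMap z' (r.stalkMap _ q) by rw [hpq])
  rw [← hc, hinj (h3.trans (map_zero _).symm), zero_smul]

/-- An invertible module representing the dual of `H¹` with restriction `O(g-1)` on a split ribbon. -/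
theorem nonempty_iso_of_split (hI : I ^ 2 = ⊥)
    (he : e.hom ≫ CohB1.ProjSpace.toSpec 1 k = I.subschemeι ≫ (C ↘ (Spec (CommRingCat.of k))))
    {g : ℕ}
    (hc : Nonempty ((Scheme.Modules.pullback I.subschemeι).obj (ClSub.idealMod I) ≅
      (Scheme.Modules.pullback e.hom).obj (_root_.Twist.twistProjSpace 1 k (-((g : ℤ) + 1)))))
    (r : C ⟶ I.subscheme) (hr : I.subschemeι ≫ r = 𝟙 I.subscheme)
    (hrk : r ≫ I.subschemeι ≫ (C ↘ (Spec (CommRingCat.of k))) = C ↘ (Spec (CommRingCat.of k)))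
    {n : ℕ} (hn : (n : ℤ) = (g : ℤ) - 1) {L : C.Modules} (hL : PicF.IsInvertible L)
    (lL : (Scheme.Modules.pullback I.subschemeι).obj L ≅
      (Scheme.Modules.pullback e.hom).obj (_root_.Twist.twistProjSpace 1 k (n : ℤ)))
    (t : Coh.HH C L 1 →ₗ[k] k)
    (ht : ∀ (F : C.Modules), Coh.IsCoh F → ∀ ψ : Coh.HH C F 1 →ₗ[k] k,
      ∃! φ : F ⟶ L, ∀ x : Coh.HH C F 1, ψ x = t (Sheaf.H.map ((SheafOfModules.toSheaf C.ringCatSheaf).map φ) 1 x)) :
    Nonempty (L ≅ (Scheme.Modules.pullback (r ≫ e.hom)).obj (_root_.Twist.twistProjSpace 1 k (n : ℤ))) := by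
  haveI := VB17.isNoetherian_of_over (k := k) (X := C)
  let M := (Scheme.Modules.pullback e.hom).obj (_root_.Twist.twistProjSpace 1 k (n : ℤ))
  let N := (Scheme.Modules.pullback r).obj M
  have hN : PicF.IsInvertible N :=
    Twist.isInvertible_pullback r (Twist.isInvertible_pullback _ (Twist.isInvertible_twistProjSpace 1 k _))
  let lN : (Scheme.Modules.pullback I.subschemeι).obj N ≅ M :=
    (Scheme.Modules.pullbackComp I.subschemeι r).app M ≪≫ (Scheme.Modules.pullbackCongr hr).app M ≪≫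
      (Scheme.Modules.pullbackId _).app M
  have hX := CurveAmple18.curveLike k C (topologicalKrullDim_eq_one I hI e).le
  have hNc : Coh.IsCoh N := Snapper.isCoh_of_isInvertible hN
  have hA := hX.adm hNc
  haveI := hA.fin 0
  haveI := hA.fin 1
  have heu := euler_invertible hI he hN hc (n := (n : ℤ)) ⟨lN⟩
  rw [hA.euler_eq] at heu
  obtain ⟨F, hF⟩ := exists_injective_h0 (k := k) (e := e) hI (n : ℤ) r hr hrk
  have hle := LinearMap.finrank_le_finrank_of_injective hF
  rw [(nonempty_HH I e he (n : ℤ) 0).some.finrank_eq, HypEq17.h0_twist] at hle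
  have hle' : (n + 1 : ℤ) ≤ (Module.finrank k (Coh.HH C N 0) : ℤ) := by exact_mod_cast hle
  have h1 : 0 < Module.finrank k (Coh.HH C N 1) := by omega
  haveI := Module.nontrivial_of_finrank_pos h1
  obtain ⟨z, hz⟩ := exists_ne (0 : Coh.HH C N 1)
  obtain ⟨ψ, hψ⟩ : ∃ ψ : Coh.HH C N 1 →ₗ[k] k, ψ z ≠ 0 := by
    by_contra hall
    push Not at hall
    exact hz ((Module.forall_dual_apply_eq_zero_iff k z).1 hall)
  obtain ⟨φ, hφ, -⟩ := ht N hNc ψ
  have hφ0 : φ ≠ 0 := fun h0 => hψ (by
    rw [hφ z, h0, Functor.map_zero]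
    exact (congrArg t (show Sheaf.H.map (0 : Coh.toAb N ⟶ Coh.toAb L) 1 z = 0 by
      change ((Sheaf.functorH _ 1).map (0 : Coh.toAb N ⟶ Coh.toAb L)).hom z = 0
      rw [Functor.map_zero]; rfl)).trans (map_zero t))
  obtain ⟨a⟩ := nonempty_seq_left hI hL hc ⟨lL⟩
  obtain ⟨u⟩ := nonempty_HH I e he (-((g : ℤ) + 1) + (n : ℤ)) 0
  haveI := HypEq17.subsingleton_h0_twist (k := k) (show -((g : ℤ) + 1) + (n : ℤ) < 0 by omega)
  have hgen : ∀ x : C, ∃ s : Γ(N, (⊤ : C.Opens)), Amp.Gen (N.presheaf.germ ⊤ x trivial s) := fun x => by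
    obtain ⟨s₀, hs₀⟩ := exists_gen_section (k := k) (n := n) (e.hom (r x))
    have h2 := gen_pullback e.hom (Twist.isInvertible_twistProjSpace 1 k (n : ℤ)) (r x) _ hs₀
    have h2' : Amp.Gen (M2.stalkUnitHom e.hom (r x) (_root_.Twist.twistProjSpace 1 k (n : ℤ))
      ((_root_.Twist.twistProjSpace 1 k (n : ℤ)).presheaf.germ ⊤ (e.hom (r x)) trivial s₀)) := h2
    rw [M2.stalkUnitHom_germ] at h2'
    have h3 := gen_pullback r (Twist.isInvertible_pullback _ (Twist.isInvertible_twistProjSpace 1 k (n : ℤ))) x _ h2'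
    have h3' : Amp.Gen (M2.stalkUnitHom r x M (M.presheaf.germ ⊤ (r x) trivial (M2.pullSec e.hom _ s₀))) := h3
    rw [M2.stalkUnitHom_germ] at h3'
    exact ⟨M2.pullSec r M (M2.pullSec e.hom _ s₀), h3'⟩
  haveI := isIso_of_ne_zero (n := (n : ℤ)) hI hN hL lN lL hgen ((hequiv k a 0).trans u).toEquiv.subsingleton φ hφ0
  exact ⟨(asIso φ).symm ≪≫ (Scheme.Modules.pullbackComp r e.hom).app _⟩

end Groth.Agent.Ribbon17
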